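import Cfsg.Agent.H816.Quasi
import Cfsg.Agent.H816.Fin24
import Cfsg.Agent.H830.Con22
import Cfsg.Agent.H831.Types

/-!
# The transpositions of `Fi24` are of type `T8` (helper49)

* `fgroup24 : Fischer480.Defs.FGroup L`, `fgroup24' : Fischer160.Inherit.FGroup L`;
* `isT8 : IsT8 L`.
-/

set_option autoImplicit false
set_option linter.style.haveILetI false

namespace Cfsg.Agent.H49.Four.TEight

open Cfsg Cfsg.Agent Subgroup
open Cfsg.Agent.R08 Cfsg.Agent.R08.FiTwentyFour
open Cfsg.Agent.Fischer.Fi24Class (gen)
open Cfsg.Agent.Fischer480.Defs (FGroup IsT8 IsT7 Loc CIso)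
open Cfsg.Spor (Fi24 Fi23)

/-- a finite simple group with a noncommuting pair is not solvable -/
theorem not_solvable_prime : ¬ Group.IsSolvable (commutator Fi24) := by
  intro hsol
  haveI : IsSimpleGroup (commutator Fi24) := H816.Fin24.simple_Fi24'
  have hc : commutator (commutator Fi24) = ⊥ ∨ commutator (commutator Fi24) = ⊤ :=
    IsSimpleGroup.eq_bot_or_eq_top_of_normal _ inferInstance
  rcases hc with hc | hc
  · -- abelian: the commutator would centralize itself
    rw [commutator_eq_bot_iff_center_eq_top] at hc
    have h2 : (commutator Fi24) ≤ centralizer ((commutator Fi24 : Subgroup Fi24) : Set Fi24) := by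
      intro a ha
      rw [mem_centralizer_iff]
      intro b hb
      have h3 : (⟨a, ha⟩ : commutator Fi24) ∈ center (commutator Fi24) := by rw [hc]; trivial
      exact congrArg Subtype.val (mem_center_iff.1 h3 ⟨b, hb⟩)
    rw [H816.Fin24.centralizer_commutator, le_bot_iff] at h2
    have h4 := card_commutator
    rw [h2, card_bot] at h4
    exact absurd h4 (by norm_num)
  · obtain ⟨k, hk⟩ := hsol
    have h4 : ∀ k, derivedSeries (commutator Fi24) k = ⊤ := by
      intro k
      induction k with
      | zero => rfl
      | succ k ihk => rw [derivedSeries_succ, ihk]; exact hc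
    rw [h4 k] at hk
    exact absurd hk top_ne_bot

theorem fgroup24 : FGroup (L : Set Fi24) where
  cls := isThreeTranspositionClass
  sol := by
    intro N hN hs
    haveI : IsSimpleGroup (commutator Fi24) := H816.Fin24.simple_Fi24'
    haveI : (N.subgroupOf (commutator Fi24)).Normal := hN.subgroupOf _
    rcases IsSimpleGroup.eq_bot_or_eq_top_of_normal (N.subgroupOf (commutator Fi24)) inferInstance with h | h
    · have h1 : N ≤ centralizer ((commutator Fi24 : Subgroup Fi24) : Set Fi24) := by
        rw [← commutator_eq_bot_iff_le_centralizer, eq_bot_iff]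
        have h2 : ⁅N, commutator Fi24⁆ ≤ N ⊓ commutator Fi24 := commutator_le_inf _ _
        refine h2.trans ?_
        rw [inf_comm]
        intro x hx
        have h3 : (⟨x, hx.1⟩ : commutator Fi24) ∈ N.subgroupOf (commutator Fi24) := hx.2
        rw [h, mem_bot] at h3
        exact mem_bot.2 (congrArg Subtype.val h3)
      rwa [H816.Fin24.centralizer_commutator, le_bot_iff] at h1
    · exfalso
      apply not_solvable_prime
      haveI := hs
      have h1 : commutator Fi24 ≤ N := subgroupOf_eq_top.1 h
      exact Group.isSolvable_of_isSolvable_injective (f := inclusion h1) (inclusion_injective h1)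
  perf := by
    haveI : IsSimpleGroup (commutator Fi24) := H816.Fin24.simple_Fi24'
    have h0 : ⁅commutator Fi24, commutator Fi24⁆ = (commutator (commutator Fi24)).map (commutator Fi24).subtype := by
      rw [_root_.commutator_def (commutator Fi24), map_commutator, ← MonoidHom.range_eq_map, range_subtype]
    rcases IsSimpleGroup.eq_bot_or_eq_top_of_normal (commutator (commutator Fi24)) inferInstance with hc | hc
    · exfalso
      apply not_solvable_prime
      rw [commutator_eq_bot_iff_center_eq_top] at hc
      exact Group.isSolvable_of_comm (fun a b => by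
        have h3 : b ∈ center (commutator Fi24) := by rw [hc]; trivial
        exact mem_center_iff.1 h3 a)
    · rw [h0, hc, ← MonoidHom.range_eq_map, range_subtype]

theorem fgroup24' : Cfsg.Agent.Fischer160.Inherit.FGroup (L : Set Fi24) :=
  H831.Types.inh_of_defs fgroup24

/-- the transpositions commuting with `l` -/
theorem cIso_loc : CIso (R08.FiTwentyThree.D : Set Fi23) (Loc L (gen .l : Fi24)) := by
  have F := facts
  have hll : gen .l * gen .l = (1 : Fi24) := sq (gen_mem_L .l)
  refine ⟨fun d => gen .l * F.phi d, ⟨?_, ?_, ?_⟩, ?_⟩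
  · intro d hd
    obtain ⟨h1, h2, h3⟩ := F.commuting_iff.2 ⟨d, hd, rfl⟩
    exact ⟨h1, h2, h3.symm⟩
  · intro d _ d' _ h
    exact F.phi_injective (mul_left_cancel h)
  · intro e he
    obtain ⟨d, hd, h⟩ := F.commuting_iff.1 ⟨he.1, he.2.1, he.2.2.symm.eq⟩
    exact ⟨d, hd, h.symm⟩
  · intro a _ b _
    have hm : ∀ a b : Fi23, gen .l * F.phi a * (gen .l * F.phi b) = F.phi (a * b) := by
      intro a b
      rw [← F.phi_comm a, map_mul, mul_assoc, ← mul_assoc (gen .l) (gen .l), hll, one_mul]
    constructor
    · intro h
      show _ = _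
      rw [hm, hm, h.eq]
    · intro h
      have h' : gen .l * F.phi a * (gen .l * F.phi b) = gen .l * F.phi b * (gen .l * F.phi a) := h
      rw [hm, hm] at h'
      exact F.phi_injective h'

theorem isT7 : IsT7 (R08.FiTwentyThree.D : Set Fi23) := H816.Quasi.isT7_of H830.Con22.isT6

/-- **The type of `Fi24`.** -/
theorem isT8 : IsT8 (L : Set Fi24) := by
  have := finite_Fi24
  refine Cfsg.Agent.S0480U.CaseDF.caseF7 fgroup24 (fun x hx => ?_)
  exact Cfsg.Agent.Fischer480.Transport.isT7 (Cfsg.Agent.Fischer480.Transport.CIso.trans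
    (Cfsg.Agent.Fischer480.Main.loc_cIso_loc isThreeTranspositionClass hx (gen_mem_L .l))
    (Cfsg.Agent.Fischer480.Transport.CIso.symm cIso_loc)) isT7

end Cfsg.Agent.H49.Four.TEight
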