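import Cfsg.Agent.H842.ThreeCl
import Cfsg.Agent.H49.Four.TEight

/-!
# The elements of order 3 of `Fi24'` are inverted by involutions of `Fi24'` (helper49)

* `three_inv (hs : s ^ 3 = 1) : ∃ j : Spor.Fi24', j * j = 1 ∧ j * s * j⁻¹ = s⁻¹`.
-/

set_option autoImplicit false
set_option maxRecDepth 100000
set_option Elab.async false

namespace Cfsg.Agent.H49.Four.ThreeInv

open Cfsg Cfsg.Agent Cfsg.Agent.Fischer.Fi24RepDef Cfsg.Agent.Fischer.Fi24Rep
open Cfsg.Agent.Fischer.Fi24Spider (word_append word_cons word_nil)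
open Cfsg.Agent.Fischer.Fi24Final (sgn sgn_gen)
open Cfsg.Agent.LThreeFi24.FiveConj (eqB eq_of_eqB)
open Cfsg.Agent.R08.FiTwentyFour (mem_commutator_iff)
open Cfsg.Spor (Fi24)
open Cfsg.Spor.Fi24 (Gen)
open Subgroup

/-- the words of the representatives -/
def xr : Fin 5 → List Gen := ![[.l, .k], [.l, .k, .b, .c], LThreeFi24.TwinK.wx3, [.l, .k, .b, .c, .e, .f],
  H842.FrameK.x5w]

def uw : List Gen := [.c, .d, .h, .e, .f, .d, .e, .c, .d, .h, .i, .g, .f, .e, .d, .h, .j, .g, .f, .e, .d]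

def j5w : List Gen := H842.FrameK.u5 ++ (H842.FrameK.rw0 ++ (([.b] ++ (H842.FrameK.xw ++ (H842.FrameK.cw ++
  (H842.FrameK.xw ++ [.b])))) ++ (([.g, .d] ++ ([.j, .g, .f, .g, .j] ++ ([.i] ++ (uw ++
  Gen.c :: uw.reverse) ++ [.i]))) ++ ([.k] ++ (H842.FrameK.xw ++ H842.FrameK.u5.reverse)))))

/-- the words of the inverting involutions -/
def jr : Fin 5 → List Gen := ![[.l, .c], [.l, .b], [.j, .e, .i, .l], [.l, .b, .e, .h], j5w]

theorem chk0 : and (eqB (jr 0 ++ jr 0) []) (eqB (jr 0 ++ (xr 0 ++ (jr 0 ++ xr 0))) []) = true := by decide +kernel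
theorem chk1 : and (eqB (jr 1 ++ jr 1) []) (eqB (jr 1 ++ (xr 1 ++ (jr 1 ++ xr 1))) []) = true := by decide +kernel
theorem chk2 : and (eqB (jr 2 ++ jr 2) []) (eqB (jr 2 ++ (xr 2 ++ (jr 2 ++ xr 2))) []) = true := by decide +kernel
theorem chk3 : and (eqB (jr 3 ++ jr 3) []) (eqB (jr 3 ++ (xr 3 ++ (jr 3 ++ xr 3))) []) = true := by decide +kernel
theorem chk4 : and (eqB (jr 4 ++ jr 4) []) (eqB (jr 4 ++ (xr 4 ++ (jr 4 ++ xr 4))) []) = true := by decide +kernel

theorem chk (i : Fin 5) : eqB (jr i ++ jr i) [] = true ∧ eqB (jr i ++ (xr i ++ (jr i ++ xr i))) [] = true := by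
  have key : ∀ a b : Bool, and a b = true → a = true ∧ b = true := by decide
  fin_cases i
  · exact key _ _ chk0
  · exact key _ _ chk1
  · exact key _ _ chk2
  · exact key _ _ chk3
  · exact key _ _ chk4

theorem sgn_word (w : List Gen) : sgn (word w) = (-1) ^ w.length := by
  induction w with
  | nil => rw [word_nil, map_one, List.length_nil, pow_zero]
  | cons x l ih =>
    rw [word_cons, map_mul, ih, List.length_cons, pow_succ']
    congr 1

theorem even_jr : ∀ i : Fin 5, (jr i).length % 2 = 0 := by decide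

theorem X_eq (i : Fin 5) : H842.ThreeCl.X i = word (xr i) := by
  fin_cases i
  · show Fischer.Fi24Class.gen .l * Fischer.Fi24Class.gen .k = word [.l, .k]
    simp only [word_cons, word_nil, mul_one]
    rfl
  all_goals rfl

/-- the representatives are inverted -/
theorem inv_X (i : Fin 5) : ∃ j : Fi24, sgn j = 1 ∧ j * j = 1 ∧ j * H842.ThreeCl.X i * j = (H842.ThreeCl.X i)⁻¹ := by
  obtain ⟨h1, h2⟩ := chk i
  have e1 := eq_of_eqB h1
  have e2 := eq_of_eqB h2
  simp only [word_append, word_nil] at e1 e2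
  refine ⟨word (jr i), ?_, e1, ?_⟩
  · rw [sgn_word]
    obtain ⟨k, hk⟩ := Nat.dvd_of_mod_eq_zero (even_jr i)
    rw [hk, pow_mul, neg_one_sq, one_pow]
  · rw [X_eq, eq_inv_iff_mul_eq_one]
    simpa only [mul_assoc] using e2

theorem three_inv24 {y : Fi24} (h3 : y ^ 3 = 1) : ∃ j : Fi24, sgn j = 1 ∧ j * j = 1 ∧ j * y * j = y⁻¹ := by
  by_cases h1 : y = 1
  · exact ⟨1, map_one _, mul_one _, by rw [h1]; simp⟩
  obtain ⟨i, g, h⟩ := H842.ThreeCl.all TEight.fgroup24' TEight.isT8 h3 h1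
  obtain ⟨j, hj, hjj, hjx⟩ := inv_X i
  refine ⟨g⁻¹ * j * g, ?_, ?_, ?_⟩
  · rw [map_mul, map_mul, map_inv, hj, mul_one, inv_mul_cancel]
  · calc g⁻¹ * j * g * (g⁻¹ * j * g) = g⁻¹ * (j * j) * g := by group
      _ = 1 := by rw [hjj]; group
  · have hjx' : j * (H842.ThreeCl.X i)⁻¹ * j = H842.ThreeCl.X i := by
      have hji : j⁻¹ = j := inv_eq_of_mul_eq_one_left hjj
      have := congrArg (fun x => x⁻¹) hjx
      simp only [mul_inv_rev, inv_inv, hji] at this
      rw [mul_assoc]; exact this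
    have e1 : y = g⁻¹ * (g * y * g⁻¹) * g := by group
    rcases h with h | h
    · rw [h] at e1
      have e2 : y⁻¹ = g⁻¹ * (H842.ThreeCl.X i)⁻¹ * g := by rw [e1]; group
      rw [e2, ← hjx]
      nth_rewrite 1 [e1]
      group
    · rw [h] at e1
      have e2 : y⁻¹ = g⁻¹ * (H842.ThreeCl.X i) * g := by rw [e1]; group
      rw [e2, ← hjx']
      nth_rewrite 1 [e1]
      group

/-- **The elements of order 3 of `Fi24'` are inverted by involutions of `Fi24'`.** -/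
theorem three_inv {s : Spor.Fi24'} (hs : s ^ 3 = 1) : ∃ j : Spor.Fi24', j * j = 1 ∧ j * s * j⁻¹ = s⁻¹ := by
  obtain ⟨j, h1, h2, h3⟩ := three_inv24 (y := (s : Fi24)) (by
    have := congrArg Subtype.val hs
    simpa using this)
  refine ⟨⟨j, mem_commutator_iff.2 h1⟩, Subtype.ext h2, Subtype.ext ?_⟩
  have hji : j⁻¹ = j := inv_eq_of_mul_eq_one_left h2
  show j * (s : Fi24) * j⁻¹ = (s : Fi24)⁻¹
  rw [hji, h3]

/-- every element of order 3 of `Fi24'` is a commutator -/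
theorem three_comm {s : Spor.Fi24'} (hs : s ^ 3 = 1) : ∃ a b : Spor.Fi24', a * b * a⁻¹ * b⁻¹ = s := by
  obtain ⟨j, h1, h2⟩ := three_inv hs
  -- `j s j⁻¹ s⁻¹ = s⁻² = s`
  refine ⟨j, s, ?_⟩
  rw [h2]
  calc s⁻¹ * s⁻¹ = s⁻¹ * s⁻¹ * s ^ 3 := by rw [hs, mul_one]
    _ = s := by group

end Cfsg.Agent.H49.Four.ThreeInv
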