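import Cfsg.Agent.H48.OreFi.Frame
import Cfsg.Agent.H854.Ore.FourT
import Cfsg.Agent.H49.Four.ThreeInv

/-!
# `Fi24'`: products of four involutions, the frame (helper49, for S4171)

* `i4_of_cent` : the sieve with an element of order 29 inverted by an involution: `|C(g)| ≤ 78382080`;
* `inv4_of` : the row from its inputs.
-/

set_option autoImplicit false
set_option maxRecDepth 100000

namespace Cfsg.Agent.H49.Four.FrF

open Cfsg Subgroup Cfsg.Agent.Characters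
open Cfsg.Agent.H777.Ore Cfsg.Agent.H854.Ore

/-- **the sieve at 29** -/
theorem i4_of_cent
    (hDN : ∀ χ : IrrCharacter Spor.Fi24', (χ : Spor.Fi24' → ℂ) ≠ 1 →
      (charDegree (χ : Spor.Fi24' → ℂ) % 29 = 1 ∨ charDegree (χ : Spor.Fi24' → ℂ) % 29 = 28) →
        57477 ≤ charDegree (χ : Spor.Fi24' → ℂ))
    (hDX : ∀ χ : IrrCharacter Spor.Fi24', (χ : Spor.Fi24' → ℂ) ≠ 1 →
      (charDegree (χ : Spor.Fi24' → ℂ) % 29 = 14 ∨ charDegree (χ : Spor.Fi24' → ℂ) % 29 = 15) →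
        113000 ≤ charDegree (χ : Spor.Fi24' → ℂ))
    {g : Spor.Fi24'} (hc : Nat.card (centralizer ({g} : Set Spor.Fi24')) ≤ 78382080) : I4 g := by
  have := H48.OreFi.finite'
  have : IsSimpleGroup Spor.Fi24' := Cfsg.Agent.S1698.result.1
  obtain ⟨x, t, hx, hC, ht, -, htx⟩ := Cfsg.Agent.H30.IMFi24.exists_x
  have hG : ¬ IsMulCommutative Spor.Fi24' := by
    intro h
    have h1 : centralizer ({x} : Set Spor.Fi24') = ⊤ := by
      rw [eq_top_iff]
      intro y _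
      rw [mem_centralizer_singleton_iff]
      exact h.is_comm.comm y x
    rw [h1, Subgroup.card_top, Cfsg.Agent.R08.FiTwentyFour.card_commutator] at hC
    omega
  have hp := H65.Ore.prd_all (p := 29) hG (by norm_num) Cfsg.Agent.R08.FiTwentyFour.card_commutator hx hC 14 2 141
    (by decide +kernel) (DN := 57477) (DX := 113000) hDN hDX (by norm_num) (by norm_num) (y := x) hx hc
  have hs : SR x := ⟨t, ht, htx⟩
  obtain ⟨a, b, hab⟩ := hp
  obtain ⟨u, v, hu, hv, e1⟩ := hs.two a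
  obtain ⟨u', v', hu', hv', e2⟩ := hs.two b
  exact ⟨u, v, u', v', hu, hv, hu', hv', by rw [hab, e1, e2]; group⟩

theorem i4_three {s : Spor.Fi24'} (hs : s ^ 3 = 1) : I4 s := by
  obtain ⟨j, h1, h2⟩ := ThreeInv.three_inv hs
  have hji : j⁻¹ = j := inv_eq_of_mul_eq_one_left h1
  rw [hji] at h2
  refine ⟨s * j, j, 1, 1, ?_, h1, mul_one _, mul_one _, ?_⟩
  · calc s * j * (s * j) = s * (j * s * j) := by group
      _ = 1 := by rw [h2, mul_inv_cancel]
  · rw [mul_one, mul_one, mul_assoc, h1, mul_one]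

/-- **the row from its inputs** -/
theorem inv4_of
    (hDN : ∀ χ : IrrCharacter Spor.Fi24', (χ : Spor.Fi24' → ℂ) ≠ 1 →
      (charDegree (χ : Spor.Fi24' → ℂ) % 29 = 1 ∨ charDegree (χ : Spor.Fi24' → ℂ) % 29 = 28) →
        57477 ≤ charDegree (χ : Spor.Fi24' → ℂ))
    (hDX : ∀ χ : IrrCharacter Spor.Fi24', (χ : Spor.Fi24' → ℂ) ≠ 1 →
      (charDegree (χ : Spor.Fi24' → ℂ) % 29 = 14 ∨ charDegree (χ : Spor.Fi24' → ℂ) % 29 = 15) →
        113000 ≤ charDegree (χ : Spor.Fi24' → ℂ))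
    (h2 : ∀ (g : Spor.Fi24') (n : ℕ), g ^ 2 ^ n = 1 → I4 g)
    (h9 : ∀ g : Spor.Fi24', orderOf g = 9 → Nat.card (centralizer ({g} : Set Spor.Fi24')) ≤ 78382080)
    (h6 : ∀ z s : Spor.Fi24', orderOf z = 2 → orderOf s = 3 → Commute z s →
      Nat.card (centralizer ({z} : Set Spor.Fi24') ⊓ centralizer ({s} : Set Spor.Fi24') : Subgroup Spor.Fi24') ≤
        78382080) {S : Type*} [Group S] (h : Spor.IsoFi24' S) : Inv4 S := by
  have key : Inv4 Spor.Fi24' := fun g =>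
    H48.OreFi.cases (P := I4) (fun g hg => i4_of_cent hDN hDX hg) h2 (fun g hg => i4_three hg) h9 h6 g
  obtain ⟨e⟩ := h
  intro g
  obtain ⟨a, b, c, d, ha, hb, hc, hd, hg⟩ := key (e g)
  refine ⟨e.symm a, e.symm b, e.symm c, e.symm d, ?_, ?_, ?_, ?_, ?_⟩
  · rw [← map_mul, ha, map_one]
  · rw [← map_mul, hb, map_one]
  · rw [← map_mul, hc, map_one]
  · rw [← map_mul, hd, map_one]
  · rw [← map_mul, ← map_mul, ← map_mul, ← hg, e.symm_apply_apply]

end Cfsg.Agent.H49.Four.FrF
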