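import Cfsg.Agent.H841.Phi
import Cfsg.Agent.H843.Fi24N

/-!
# `Fi24'`: elements of order `3 ^ b` commuting with an element of order 5 (helper49, for S4171 and S2443)

* `inv_of_five` : an element of order `3 ^ b ≥ 9` commuting with an element of order 5 is inverted by an involution of `Fi24'`.
-/

set_option autoImplicit false
set_option maxRecDepth 100000

namespace Cfsg.Agent.H49.Four.NineFive

open Cfsg Subgroup Equiv
open Cfsg.Agent.Fischer.Fi24Final (sgn)
open Cfsg.Agent.R08.FiTwentyFour (L finite_Fi24 mem_commutator_iff)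
open Cfsg.Agent.LThreeFi24.SNine (y0 R)
open Cfsg.Agent.LThreeFi24.FiveConj (orderOf_y0 exists_conj_five)
open Cfsg.Agent.H841.Five
open Cfsg.Spor (Fi24)

theorem sgn_Phi (σ : Perm (Fin 9)) : sgn (Phi σ) = Perm.sign σ := by
  have h1 : (sgn.comp Phi : Perm (Fin 9) →* ℤˣ) = Perm.sign := by
    apply Perm.eq_sign_of_surjective_hom
    intro u
    rcases Int.units_eq_one_or u with rfl | rfl
    · exact ⟨1, map_one _⟩
    · refine ⟨swap 0 1, ?_⟩
      show sgn (Phi (swap 0 1)) = -1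
      exact Cfsg.Agent.R08.FiTwentyFour.sgn_L (Phi_swap_mem_L (by decide))
  exact congrArg (fun f : Perm (Fin 9) →* ℤˣ => f σ) h1

/-- the reversal inverts the 9-cycle -/
theorem rev_rot : Fin.revPerm * finRotate 9 * Fin.revPerm = (finRotate 9)⁻¹ := by decide +kernel

theorem rev_rev : (Fin.revPerm : Perm (Fin 9)) * Fin.revPerm = 1 := by decide +kernel

theorem sign_rev : Perm.sign (Fin.revPerm : Perm (Fin 9)) = 1 := by decide +kernel

theorem cyc {σ : Perm (Fin 9)} {b : ℕ} (hb : 2 ≤ b) (ho : orderOf σ = 3 ^ b) : σ.cycleType = {9} := by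
  have hdiv : ∀ n ∈ σ.cycleType, n = 3 ∨ n = 9 := by
    intro n hn
    have h1 : n ∣ 3 ^ b := ho ▸ Perm.dvd_of_mem_cycleType hn
    obtain ⟨k, -, rfl⟩ := (Nat.dvd_prime_pow Nat.prime_three).1 h1
    have h2 : 2 ≤ 3 ^ k := Perm.two_le_of_mem_cycleType hn
    have h3 : 3 ^ k ≤ 9 := by
      refine (Multiset.single_le_sum (fun _ _ => Nat.zero_le _) _ hn).trans ?_
      rw [Perm.sum_cycleType]
      exact (Finset.card_le_univ _).trans (by simp)
    match k, h2, h3 with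
    | 0, h2, _ => norm_num at h2
    | 1, _, _ => exact Or.inl rfl
    | 2, _, _ => exact Or.inr rfl
    | k + 3, _, h3 =>
      have : 3 ^ 3 ≤ 3 ^ (k + 3) := Nat.pow_le_pow_right (by norm_num) (by omega)
      omega
  have h9 : 9 ∈ σ.cycleType := by
    by_contra h
    have h3 : orderOf σ ∣ 3 := by
      rw [← Perm.lcm_cycleType]
      refine Multiset.lcm_dvd.2 fun n hn => ?_
      rcases hdiv n hn with rfl | rfl
      · exact dvd_rfl
      · exact absurd hn h
    rw [ho] at h3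
    have h4 : 3 ^ 2 ≤ 3 ^ b := Nat.pow_le_pow_right (by norm_num) hb
    have h5 := Nat.le_of_dvd (by norm_num) h3
    omega
  obtain ⟨t, ht⟩ := Multiset.exists_cons_of_mem h9
  have hs : σ.cycleType.sum ≤ 9 := by
    rw [Perm.sum_cycleType]
    exact (Finset.card_le_univ _).trans (by simp)
  rw [ht, Multiset.sum_cons] at hs
  have ht0 : t = 0 := by
    by_contra hne
    obtain ⟨n, hn⟩ := Multiset.exists_mem_of_ne_zero hne
    have h2 : 2 ≤ n := Perm.two_le_of_mem_cycleType (ht ▸ Multiset.mem_cons_of_mem hn)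
    have h3 := Multiset.single_le_sum (fun _ _ => Nat.zero_le _) _ hn
    omega
  rw [ht, ht0]
  rfl

theorem inv_cyc {σ : Perm (Fin 9)} {b : ℕ} (hb : 2 ≤ b) (ho : orderOf σ = 3 ^ b) :
    ∃ ρ : Perm (Fin 9), Perm.sign ρ = 1 ∧ ρ * ρ = 1 ∧ ρ * σ * ρ = σ⁻¹ := by
  have h1 : IsConj σ (finRotate 9) := by
    rw [Perm.isConj_iff_cycleType_eq, cyc hb ho]
    exact (cycleType_finRotate (n := 7)).symm
  obtain ⟨c, hc⟩ := isConj_iff.1 h1
  refine ⟨c⁻¹ * Fin.revPerm * c, ?_, ?_, ?_⟩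
  · rw [map_mul, map_mul, sign_rev, mul_one, ← map_mul, inv_mul_cancel, map_one]
  · calc c⁻¹ * Fin.revPerm * c * (c⁻¹ * Fin.revPerm * c) = c⁻¹ * (Fin.revPerm * Fin.revPerm) * c := by group
      _ = 1 := by rw [rev_rev]; group
  · have e1 : σ = c⁻¹ * finRotate 9 * c := by rw [← hc]; group
    rw [e1]
    calc c⁻¹ * Fin.revPerm * c * (c⁻¹ * finRotate 9 * c) * (c⁻¹ * Fin.revPerm * c) =
        c⁻¹ * (Fin.revPerm * finRotate 9 * Fin.revPerm) * c := by group
      _ = (c⁻¹ * finRotate 9 * c)⁻¹ := by rw [rev_rot]; group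

/-- **An element of order `3 ^ b ≥ 9` commuting with an element of order 5 is inverted by an involution of `Fi24'`.** -/
theorem inv_of_five {g y : Fi24} {b : ℕ} (hb : 2 ≤ b) (hg : orderOf g = 3 ^ b) (hy : orderOf y = 5)
    (hgy : Commute g y) : ∃ j : Fi24, sgn j = 1 ∧ j * j = 1 ∧ j * g * j = g⁻¹ := by
  obtain ⟨c, hc⟩ := exists_conj_five hy
  set g' := c * g * c⁻¹ with hg'
  have hg'y : g' * y0 = y0 * g' := by
    rw [hg', ← hc]
    calc c * g * c⁻¹ * (c * y * c⁻¹) = c * (g * y) * c⁻¹ := by group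
      _ = c * (y * g) * c⁻¹ := by rw [hgy.eq]
      _ = c * y * c⁻¹ * (c * g * c⁻¹) := by group
  obtain ⟨i, σ, hi, hR, e⟩ := exists_of_comm hg'y
  have hgo : orderOf g' = 3 ^ b := by
    rw [← hg, hg']
    exact (MulAut.conj c).orderOf_eq g
  -- the power of `y0` is trivial
  have hco := (comm_y0_pow_Phi i σ)
  have h1 : (y0 ^ i) ^ 3 ^ b * (Phi σ) ^ 3 ^ b = 1 := by
    rw [← hco.mul_pow, ← e, ← hgo, pow_orderOf_eq_one]
  have hR1 : ∀ n : ℕ, R (g' ^ n) (σ ^ n) := by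
    intro n
    induction n with
    | zero => rw [pow_zero, pow_zero]; exact Cfsg.Agent.LThreeFi24.SNine.R.one
    | succ n ih => rw [pow_succ, pow_succ]; exact ih.mul hR
  have hσ1 : σ ^ 3 ^ b = 1 := by
    have h2 := hR1 (3 ^ b)
    rw [← hgo, pow_orderOf_eq_one, hgo] at h2
    exact h2.uniq Cfsg.Agent.LThreeFi24.SNine.R.one
  have hi0 : y0 ^ i = 1 := by
    rw [← map_pow, hσ1, map_one, mul_one, ← pow_mul] at h1
    have h2 : 5 ∣ i * 3 ^ b := by
      have h3 := orderOf_dvd_of_pow_eq_one h1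
      rwa [orderOf_y0] at h3
    have h3 : 5 ∣ i := by
      refine (Nat.Coprime.dvd_of_dvd_mul_right ?_ h2)
      exact Nat.Coprime.pow_right _ (by norm_num)
    obtain ⟨k, rfl⟩ := h3
    rw [pow_mul, ← orderOf_y0, pow_orderOf_eq_one, one_pow]
  rw [hi0, one_mul] at e
  have hσo : orderOf σ = 3 ^ b := by
    rw [← hgo, e, orderOf_injective Phi Phi_injective]
  obtain ⟨ρ, h2, h3, h4⟩ := inv_cyc hb hσo
  refine ⟨c⁻¹ * Phi ρ * c, ?_, ?_, ?_⟩
  · rw [map_mul, map_mul, sgn_Phi, h2, mul_one, ← map_mul, inv_mul_cancel, map_one]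
  · calc c⁻¹ * Phi ρ * c * (c⁻¹ * Phi ρ * c) = c⁻¹ * (Phi ρ * Phi ρ) * c := by group
      _ = 1 := by rw [← map_mul, h3, map_one]; group
  · have e1 : g = c⁻¹ * Phi σ * c := by rw [← e, hg']; group
    rw [e1]
    calc c⁻¹ * Phi ρ * c * (c⁻¹ * Phi σ * c) * (c⁻¹ * Phi ρ * c) = c⁻¹ * (Phi ρ * Phi σ * Phi ρ) * c := by group
      _ = (c⁻¹ * Phi σ * c)⁻¹ := by rw [← map_mul, ← map_mul, h4, map_inv]; group

/-- the same in `Fi24'` -/
theorem inv_of_five' {g : Spor.Fi24'} {b : ℕ} (hb : 2 ≤ b) (hg : orderOf g = 3 ^ b)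
    (h5 : 5 ∣ Nat.card (centralizer ({g} : Set Spor.Fi24'))) : ∃ j : Spor.Fi24', j * j = 1 ∧ j * g * j⁻¹ = g⁻¹ := by
  have hfin : Finite Fi24 := finite_Fi24
  have : Finite Spor.Fi24' := inferInstanceAs (Finite (_root_.commutator Fi24))
  have : Fact (Nat.Prime 5) := ⟨by norm_num⟩
  obtain ⟨y, hy⟩ := exists_prime_orderOf_dvd_card' 5 h5
  have hyo : orderOf (((y : centralizer ({g} : Set Spor.Fi24')) : Spor.Fi24') : Fi24) = 5 := by
    rw [← hy]
    exact (orderOf_injective (Subgroup.subtype _) (Subgroup.subtype_injective _) _).trans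
      (orderOf_injective (Subgroup.subtype _) (Subgroup.subtype_injective _) y)
  have hgo : orderOf ((g : Spor.Fi24') : Fi24) = 3 ^ b := by
    rw [← hg]
    exact orderOf_injective (Subgroup.subtype _) (Subgroup.subtype_injective _) g
  have hc : Commute (g : Fi24) (((y : centralizer ({g} : Set Spor.Fi24')) : Spor.Fi24') : Fi24) :=
    (congrArg Subtype.val (mem_centralizer_singleton_iff.1 y.2)).symm
  obtain ⟨j, h1, h2, h3⟩ := inv_of_five hb hgo hyo hc
  have hji : j⁻¹ = j := inv_eq_of_mul_eq_one_left h2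
  refine ⟨⟨j, mem_commutator_iff.2 h1⟩, Subtype.ext h2, Subtype.ext ?_⟩
  show j * (g : Fi24) * j⁻¹ = (g : Fi24)⁻¹
  rw [hji, h3]

end Cfsg.Agent.H49.Four.NineFive
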