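import Cfsg.Agent.H841.SevU
import Cfsg.Agent.R08.TetFi24A
import Cfsg.Agent.H49.Four.ThreeInv
import Cfsg.Agent.S0288

/-!
# `Fi24'`: elements of order `3 ^ b ≥ 9` with a power conjugate to `x2` (helper49, for S4171 and S2443)

* `card_K` : `|C(x2) ∩ Fi24'| = 2^8 3^13 5 7`;
* `no_seven` : no element of order 7 commutes with an element of order `3 ^ b ≥ 9` commuting with `x2`;
* `bound` : `|C(g) ∩ Fi24'| ≤ 68024448`.
-/

set_option autoImplicit false
set_option maxRecDepth 100000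

namespace Cfsg.Agent.H49.Four.NineSix

open Cfsg Subgroup
open Cfsg.Agent.R08.FiTwentyFour (L finite_Fi24 mem_commutator_iff)
open Cfsg.Agent.LThreeFi24.SNine (x2)
open Cfsg.Agent.H841.Sev
open Cfsg.Agent.Fischer.Fi24RepDef Cfsg.Agent.Fischer.Fi24Rep
open Cfsg.Spor (Fi24)
open Cfsg.Spor.Fi24 (Gen)
open Cfsg.Agent.Fischer.Fi24Final (sgn)
open Cfsg.Agent.LThreeFi24.FiveConj (eqB eq_of_eqB)
open Cfsg.Agent.Fischer.Fi24Spider (word_append word_cons word_nil)
open Cfsg.Agent.KFacts.FiTF.Pts Cfsg.Agent.KFacts.FiTF.FixMask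

/-! ### Generalities -/

/-- a `p`-subgroup of `K` is conjugate in `K` to a subgroup of a subgroup of index prime to `p` -/
theorem conj_in {G : Type*} [Group G] {K H : Subgroup G} {p : ℕ} [Fact p.Prime] (hk : ¬ p ∣ H.relIndex K)
    {Q : Subgroup G} (hQ : IsPGroup p Q) (hQK : Q ≤ K) : ∃ k ∈ K, ∀ q ∈ Q, k⁻¹ * q * k ∈ H := by
  let φ : Q →* K := inclusion hQK
  let act : MulAction Q (K ⧸ H.subgroupOf K) := MulAction.compHom _ φ
  obtain ⟨x, hx⟩ := hQ.nonempty_fixed_point_of_prime_not_dvd_card (K ⧸ H.subgroupOf K) hk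
  obtain ⟨k, rfl⟩ := QuotientGroup.mk_surjective x
  refine ⟨k, k.2, fun q hq => ?_⟩
  have h1 : (φ ⟨q, hq⟩ • (QuotientGroup.mk k : K ⧸ H.subgroupOf K)) = QuotientGroup.mk k := hx ⟨q, hq⟩
  rw [MulAction.Quotient.smul_mk, eq_comm, QuotientGroup.eq, mem_subgroupOf] at h1
  have h2 : (k : G)⁻¹ * (q * k) ∈ H := h1
  rwa [← mul_assoc] at h2

/-- the number of fixed points of an element of order `p ^ n` -/
theorem fix_mod {α : Type*} [Finite α] {f : α → α} {p n : ℕ} [hp : Fact p.Prime] (hf : f^[p ^ n] = id) :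
    Nat.card α ≡ Nat.card {a // f a = a} [MOD p] := by
  classical
  have := Fintype.ofFinite α
  have h := Equiv.Perm.card_fixedPoints_modEq (f := (f : Function.End α)) (p := p) (n := n) (by
    have h1 : ∀ m : ℕ, HPow.hPow (show Function.End α from f) m = (show Function.End α from f^[m]) := by
      intro m
      induction m with
      | zero => rfl
      | succ m ih => rw [pow_succ, ih]; rfl
    exact (h1 _).trans hf)
  rw [Nat.card_eq_fintype_card, Nat.card_eq_fintype_card]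
  exact h

/-! ### The action on the 6-space -/

theorem a6_pow (h : O6) (n : ℕ) (v : W) : a6 (h ^ n) v = (a6 h)^[n] v := by
  induction n generalizing v with
  | zero => rw [pow_zero, a6_one]; rfl
  | succ n ih => rw [pow_succ, a6_mul, ih]; rfl

/-- the fixed vectors -/
def fx (h : O6) : AddSubgroup W where
  carrier := {v | a6 h v = v}
  zero_mem' := Matrix.mulVec_zero _
  add_mem' {v w} hv hw := by
    show a6 h (v + w) = v + w
    have h1 : a6 h (v + w) = a6 h v + a6 h w := Matrix.mulVec_add _ _ _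
    rw [h1]
    exact congrArg₂ (· + ·) hv hw
  neg_mem' {v} hv := by
    show a6 h (-v) = -v
    have h1 : a6 h (-v) = - a6 h v := Matrix.mulVec_neg _ _
    rw [h1]
    exact congrArg Neg.neg hv

theorem card_W : Nat.card W = 3 ^ 6 := by
  rw [Nat.card_eq_fintype_card, Fintype.card_fun, ZMod.card]
  rfl

theorem card_fx (h : O6) : ∃ j, j ≤ 6 ∧ Nat.card (fx h) = 3 ^ j := by
  have h1 : Nat.card (fx h) ∣ 3 ^ 6 := by rw [← card_W]; exact AddSubgroup.card_addSubgroup_dvd_card _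
  obtain ⟨j, hj, h2⟩ := (Nat.dvd_prime_pow Nat.prime_three).1 h1
  exact ⟨j, hj, h2⟩

theorem eq_one_of_card {h : O6} (hc : Nat.card (fx h) = 3 ^ 6) : h = 1 := by
  apply a6_ext
  intro v
  rw [a6_one]
  have h1 : fx h = ⊤ := by
    apply AddSubgroup.eq_top_of_card_eq
    rw [hc, card_W]
  have h2 : v ∈ fx h := by rw [h1]; trivial
  exact h2

theorem mod_seven {j : ℕ} (hj : j ≤ 6) (h : 3 ^ 6 ≡ 3 ^ j [MOD 7]) : j = 0 ∨ j = 6 := by
  interval_cases j <;> revert h <;> decide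

/-- an element of order a power of 3 commuting with an element of order 7 is trivial -/
theorem eq_one_of_seven {y h : O6} (hy : y ^ 7 = 1) (hy1 : y ≠ 1) (hyh : y * h = h * y) {b : ℕ} (hh : h ^ 3 ^ b = 1) :
    h = 1 := by
  have : Fact (Nat.Prime 7) := ⟨by norm_num⟩
  have : Fact (Nat.Prime 3) := ⟨by norm_num⟩
  have hit : ∀ {x : O6} {n : ℕ}, x ^ n = 1 → (a6 x)^[n] = id := by
    intro x n hx
    funext v
    rw [← a6_pow, hx, a6_one]; rfl
  -- `y` has no fixed vectors
  have hy0 : Nat.card (fx y) = 1 := by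
    obtain ⟨j, hj, h1⟩ := card_fx y
    have h2 : Nat.card W ≡ Nat.card {v // a6 y v = v} [MOD 7] := fix_mod (n := 1) (by rw [pow_one]; exact hit hy)
    have h3 : Nat.card {v // a6 y v = v} = Nat.card (fx y) := rfl
    rw [card_W, h3, h1] at h2
    rcases mod_seven hj h2 with rfl | rfl
    · rw [h1, pow_zero]
    · exact absurd (eq_one_of_card h1) hy1
  have hbot : ∀ v : W, a6 y v = v → v = 0 := by
    intro v hv
    have h1 : fx y = ⊥ := AddSubgroup.card_eq_one.1 hy0
    have h2 : v ∈ fx y := hv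
    rw [h1] at h2
    exact AddSubgroup.mem_bot.1 h2
  -- `h` has fixed vectors
  obtain ⟨j, hj, h1⟩ := card_fx h
  have h2 : Nat.card W ≡ Nat.card {v // a6 h v = v} [MOD 3] := fix_mod (n := b) (hit hh)
  have h3 : Nat.card {v // a6 h v = v} = Nat.card (fx h) := rfl
  rw [card_W, h3, h1] at h2
  have hj0 : j ≠ 0 := by
    rintro rfl
    revert h2
    decide
  -- `y` acts on them
  have hmap : ∀ v : W, a6 h v = v → a6 h (a6 y v) = a6 y v := by
    intro v hv
    rw [← a6_mul, ← hyh, a6_mul, hv]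
  let f : fx h → fx h := fun v => ⟨a6 y v, hmap v v.2⟩
  have hf : ∀ (n : ℕ) (v : fx h), ((f^[n] v : fx h) : W) = (a6 y)^[n] v := by
    intro n
    induction n with
    | zero => intro v; rfl
    | succ n ih => intro v; rw [Function.iterate_succ_apply, ih, Function.iterate_succ_apply]
  have h4 : Nat.card (fx h) ≡ Nat.card {v // f v = v} [MOD 7] := fix_mod (n := 1) (by
    funext v
    apply Subtype.ext
    rw [hf, pow_one, hit hy]; rfl)
  have h5 : Nat.card {v // f v = v} = 1 := by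
    rw [Nat.card_eq_one_iff_unique]
    have h0 : f 0 = 0 := Subtype.ext (show a6 y 0 = 0 from Matrix.mulVec_zero _)
    refine ⟨⟨fun v w => ?_⟩, ⟨⟨(0 : fx h), h0⟩⟩⟩
    have hv := hbot _ (congrArg Subtype.val v.2)
    have hw := hbot _ (congrArg Subtype.val w.2)
    exact Subtype.ext (Subtype.ext (hv.trans hw.symm))
  rw [h1, h5] at h4
  have h6 : j = 0 ∨ j = 6 := mod_seven hj (by
    refine Nat.ModEq.trans ?_ h4.symm
    decide)
  rcases h6 with rfl | rfl
  · exact absurd rfl hj0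
  · exact eq_one_of_card h1

/-! ### `C(x2)` -/

theorem mem_NY_of_comm {g : Fi24} (h : Commute g x2) : g ∈ NY := mem_NY.2 (Or.inl (by rw [h.eq]; group))

theorem mem_A_of_Ps {g : Fi24} (h : Commute g x2) (h1 : Ps ⟨g, mem_NY_of_comm h⟩ = 1) : g ∈ A := Ps_eq_one.1 h1

/-- **no element of order 7 commutes with an element of order `3 ^ b ≥ 9` commuting with `x2`** -/
theorem no_seven {g y : Fi24} (hg : Commute g x2) {b : ℕ} (hb : 2 ≤ b) (hgo : orderOf g = 3 ^ b) (hy : Commute y x2)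
    (hyo : orderOf y = 7) (hgy : Commute y g) : False := by
  have h1 : Ps ⟨y, mem_NY_of_comm hy⟩ ≠ 1 := by
    intro h
    have h2 := A_cube (mem_A_of_Ps hy h)
    have h3 := orderOf_dvd_of_pow_eq_one h2
    rw [hyo] at h3
    exact absurd h3 (by norm_num)
  have h2 : Ps ⟨g, mem_NY_of_comm hg⟩ = 1 := by
    refine eq_one_of_seven (y := Ps ⟨y, mem_NY_of_comm hy⟩) (b := b) ?_ h1 ?_ ?_
    · rw [← map_pow]
      have : (⟨y, mem_NY_of_comm hy⟩ : NY) ^ 7 = 1 := Subtype.ext (by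
        show y ^ 7 = 1
        rw [← hyo, pow_orderOf_eq_one])
      rw [this, map_one]
    · rw [← map_mul, ← map_mul]
      exact congrArg Ps (Subtype.ext hgy.eq)
    · rw [← map_pow]
      have : (⟨g, mem_NY_of_comm hg⟩ : NY) ^ 3 ^ b = 1 := Subtype.ext (by
        show g ^ 3 ^ b = 1
        rw [← hgo, pow_orderOf_eq_one])
      rw [this, map_one]
  have h3 := orderOf_dvd_of_pow_eq_one (A_cube (mem_A_of_Ps hg h2))
  rw [hgo] at h3
  have h4 := Nat.le_of_dvd (by norm_num) h3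
  have h5 : 3 ^ 2 ≤ 3 ^ b := Nat.pow_le_pow_right (by norm_num) hb
  omega

theorem card_O6 : Nat.card O6 = 26127360 := by
  have h := Cfsg.Agent.S0288.result (F := ZMod 3) (q := 3) (ZMod.card 3) 3 (by norm_num) 0 1 (by decide)
  refine h.trans ?_
  decide

theorem card_NY : Nat.card NY = 57140536320 := by
  have h1 := Subgroup.card_mul_index Ps.ker
  have h2 : Ps.ker.index = 26127360 := by
    rw [← card_O6, Subgroup.index_ker, MonoidHom.range_eq_top.2 Ps_surjective, Subgroup.card_top]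
  have h3 : Nat.card Ps.ker = 3 ^ 7 := by
    rw [ker_Ps, Nat.card_congr (subgroupOfEquivOfLe A_le_NY).toEquiv, card_A]
  rw [h2, h3] at h1
  rw [← h1]
  norm_num

/-- `C(x2) ∩ Fi24'` -/
def K : Subgroup Fi24 := centralizer {x2} ⊓ _root_.commutator Fi24

theorem K_le_NY : K ≤ NY := fun _ hg => mem_NY_of_comm (mem_centralizer_singleton_iff.1 hg.1)

theorem comm_l (x : Gen) (hx : x = .l ∨ x = .k ∨ x = .a ∨ x = .b) : Commute (gen x) x2 :=
  (Cfsg.Agent.LThreeFi24.SNine.S9_comm Cfsg.Agent.LThreeFi24.SNine.x2_mem x hx).symm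

theorem x2_cube : x2 ^ 3 = 1 := A_cube (x2_mem_A (mem_zpowers _))

theorem x2_ne_inv : x2⁻¹ ≠ x2 := by
  intro h
  have h1 : x2 ^ 2 = 1 := by rw [pow_two]; nth_rewrite 1 [← h]; exact inv_mul_cancel _
  have h2 : x2 = 1 := by
    calc x2 = x2 ^ 3 * (x2 ^ 2)⁻¹ := by group
      _ = 1 := by rw [x2_cube, h1]; group
  rw [x2_vec] at h2
  have := vec_eq_one h2
  exact absurd this (by decide)

theorem card_C : Nat.card (centralizer ({x2} : Set Fi24)) * 2 = 57140536320 := by
  have hle : centralizer ({x2} : Set Fi24) ≤ NY := fun g hg => mem_NY_of_comm (mem_centralizer_singleton_iff.1 hg)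
  have hmem : ∀ g : NY, g ∈ (centralizer ({x2} : Set Fi24)).subgroupOf NY ↔ (g : Fi24) * x2 * (g : Fi24)⁻¹ = x2 := by
    intro g
    rw [mem_subgroupOf, mem_centralizer_singleton_iff, mul_inv_eq_iff_eq_mul]
  have hidx : ((centralizer ({x2} : Set Fi24)).subgroupOf NY).index = 2 := by
    obtain ⟨j, -, hjj, hj⟩ := ThreeInv.three_inv24 x2_cube
    have hji : j⁻¹ = j := inv_eq_of_mul_eq_one_left hjj
    have hn2 : j * x2 * j⁻¹ = x2⁻¹ := by rw [hji, hj]
    let n : NY := ⟨j, mem_NY.2 (Or.inr hn2)⟩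
    rw [Subgroup.index_eq_two_iff]
    refine ⟨n, fun b => ?_⟩
    rw [hmem, hmem]
    have e1 : ((b * n : NY) : Fi24) * x2 * ((b * n : NY) : Fi24)⁻¹ = (b : Fi24) * x2⁻¹ * (b : Fi24)⁻¹ := by
      rw [← hn2, Subgroup.coe_mul]
      show (b : Fi24) * j * x2 * ((b : Fi24) * j)⁻¹ = _
      group
    rw [e1]
    have e2 : (b : Fi24) * x2⁻¹ * (b : Fi24)⁻¹ = ((b : Fi24) * x2 * (b : Fi24)⁻¹)⁻¹ := by group
    rw [e2]
    rcases mem_NY.1 b.2 with h | h
    · rw [h]
      exact Or.inr ⟨rfl, x2_ne_inv⟩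
    · rw [h, inv_inv]
      exact Or.inl ⟨rfl, x2_ne_inv⟩
  have h1 := Subgroup.card_mul_index ((centralizer ({x2} : Set Fi24)).subgroupOf NY)
  rwa [hidx, card_NY, Nat.card_congr (subgroupOfEquivOfLe hle).toEquiv] at h1

theorem card_K : Nat.card K = 14285134080 := by
  let φ : centralizer ({x2} : Set Fi24) →* ℤˣ := sgn.comp (Subgroup.subtype _)
  have hsurj : Function.Surjective φ := by
    intro u
    rcases Int.units_eq_one_or u with rfl | rfl
    · exact ⟨1, map_one _⟩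
    · refine ⟨⟨gen .l, mem_centralizer_singleton_iff.2 (comm_l .l (Or.inl rfl)).eq⟩, ?_⟩
      exact Cfsg.Agent.Fischer.Fi24Final.sgn_gen .l
  have h1 : φ.ker.index = 2 := by
    rw [Subgroup.index_ker, MonoidHom.range_eq_top.2 hsurj, Subgroup.card_top, Nat.card_eq_fintype_card]
    rfl
  have h2 : φ.ker = K.subgroupOf (centralizer ({x2} : Set Fi24)) := by
    ext g
    rw [MonoidHom.mem_ker, mem_subgroupOf]
    constructor
    · intro h
      exact ⟨g.2, mem_commutator_iff.2 h⟩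
    · intro h
      exact mem_commutator_iff.1 h.2
  have h3 := Subgroup.card_mul_index φ.ker
  have hKC : K ≤ centralizer ({x2} : Set Fi24) := fun g hg => hg.1
  rw [h1, h2, Nat.card_congr (subgroupOfEquivOfLe hKC).toEquiv] at h3
  have h4 := card_C
  omega

theorem odd_pair {g a b : Fi24} (ho : Odd (orderOf g)) (ha : a ∈ L) (hb : b ∈ L) (hab : Commute a b) (hne : a ≠ b)
    (hg : Commute g (a * b)) : Commute g a := by
  have hL := Cfsg.Agent.R08.TetFi24A.tr
  have e1 : (g * a * g⁻¹) * (g * b * g⁻¹) = a * b := by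
    rw [show (g * a * g⁻¹) * (g * b * g⁻¹) = g * (a * b) * g⁻¹ by group, hg.eq]; group
  have hc : Commute (g * a * g⁻¹) (g * b * g⁻¹) := by
    show (g * a * g⁻¹) * (g * b * g⁻¹) = (g * b * g⁻¹) * (g * a * g⁻¹)
    rw [show (g * a * g⁻¹) * (g * b * g⁻¹) = g * (a * b) * g⁻¹ by group, hab.eq]; group
  rcases Cfsg.Agent.R08.TetBasic.pair_unique hL ha hb (hL.conj g a ha) (hL.conj g b hb) hab hne hc e1.symm with
    ⟨h1, -⟩ | ⟨h1, h2⟩
  · show g * a = a * g
    rw [mul_inv_eq_iff_eq_mul] at h1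
    exact h1
  · have h3 : Commute (g ^ 2) a := by
      show g ^ 2 * a = a * g ^ 2
      rw [mul_inv_eq_iff_eq_mul] at h1 h2
      rw [pow_two, mul_assoc, h1, ← mul_assoc, h2, mul_assoc]
    obtain ⟨k, hk⟩ := ho
    have h4 : g = (g ^ 2) ^ (k + 1) := by
      rw [← pow_mul, show 2 * (k + 1) = 2 * k + 1 + 1 by ring, ← hk, pow_succ, pow_orderOf_eq_one, one_mul]
    rw [h4]
    exact h3.pow_left _

theorem chk_la : eqB [.l, .a] [.a, .l] = true := by decide +kernel

theorem la : Commute (gen .l) (gen .a) ∧ gen .l ≠ gen .a := by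
  constructor
  · have h := eq_of_eqB chk_la
    simp only [word_cons, word_nil, mul_one] at h
    exact h
  · intro h
    have h1 : IsPt (gen .l) (pn .l) := isPt_gen .l
    have h2 : IsPt (gen .a) (pn .a) := isPt_gen .a
    rw [h] at h1
    exact absurd (h1.uniq h2) (by decide)

/-- **the centralizer in `Fi24'` of an element of order `3 ^ b ≥ 9` with a power equal to `x2`** -/
theorem bound {g : Fi24} (hx : x2 ∈ zpowers g) {b : ℕ} (hb : 2 ≤ b) (hgo : orderOf g = 3 ^ b)
    (h5 : ¬ 5 ∣ Nat.card (centralizer ({g} : Set Fi24) ⊓ _root_.commutator Fi24 : Subgroup Fi24))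
    (hD : ∀ d ∈ L, ¬ Commute g d) :
    Nat.card (centralizer ({g} : Set Fi24) ⊓ _root_.commutator Fi24 : Subgroup Fi24) ≤ 68024448 := by
  have hfin : Finite Fi24 := finite_Fi24
  have hf2 : Fact (Nat.Prime 2) := ⟨by norm_num⟩
  have hf3 : Fact (Nat.Prime 3) := ⟨by norm_num⟩
  have hf7 : Fact (Nat.Prime 7) := ⟨by norm_num⟩
  have hcx : ∀ {c : Fi24}, Commute c g → Commute c x2 := by
    intro c hc
    obtain ⟨n, hn⟩ := mem_zpowers_iff.1 hx
    rw [← hn]
    exact hc.zpow_right n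
  have hodd : Odd (orderOf g) := by rw [hgo]; exact Odd.pow (by decide)
  have hg3 : g ∉ A := by
    intro h
    have h3 := orderOf_dvd_of_pow_eq_one (A_cube h)
    rw [hgo] at h3
    have h4 := Nat.le_of_dvd (by norm_num) h3
    have h5 : 3 ^ 2 ≤ 3 ^ b := Nat.pow_le_pow_right (by norm_num) hb
    omega
  set H : Subgroup Fi24 := centralizer ({g} : Set Fi24) ⊓ _root_.commutator Fi24 with hH
  have hHK : H ≤ K := fun c hc => ⟨mem_centralizer_singleton_iff.2 (hcx (mem_centralizer_singleton_iff.1 hc.1)).eq, hc.2⟩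
  have hcard : Nat.card H * H.relIndex K = 14285134080 := by
    rw [← card_K, ← Subgroup.card_mul_index (H.subgroupOf K), Nat.card_congr (subgroupOfEquivOfLe hHK).toEquiv]
    rfl
  have k2 : 2 ∣ H.relIndex K := by
    by_contra hk
    have hla := la
    have hll : gen .l ∈ L := Cfsg.Agent.R08.FiTwentyFour.gen_mem_L .l
    have hal : gen .a ∈ L := Cfsg.Agent.R08.FiTwentyFour.gen_mem_L .a
    have hz : zpowers (gen .l * gen .a) ≤ K := by
      rw [zpowers_le]
      refine ⟨mem_centralizer_singleton_iff.2 ((comm_l .l (by simp)).mul_left (comm_l .a (by simp))).eq,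
        mem_commutator_iff.2 ?_⟩
      rw [map_mul, Cfsg.Agent.R08.FiTwentyFour.sgn_L hll, Cfsg.Agent.R08.FiTwentyFour.sgn_L hal]
      decide
    have hp : IsPGroup 2 (zpowers (gen .l * gen .a)) := by
      refine IsPGroup.iff_card.2 ?_
      have h1 : (gen .l * gen .a) ^ 2 = 1 := by
        rw [hla.1.mul_pow, pow_two, pow_two, Cfsg.Agent.R08.FiTwentyFour.sq hll, Cfsg.Agent.R08.FiTwentyFour.sq hal,
          mul_one]
      have h2 := orderOf_dvd_of_pow_eq_one h1
      rw [Nat.card_zpowers]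
      obtain ⟨n, -, hn⟩ := (Nat.dvd_prime_pow Nat.prime_two (m := 1) (i := orderOf (gen .l * gen .a))).1
        (by rw [pow_one]; exact h2)
      exact ⟨n, hn⟩
    obtain ⟨c, hc, h⟩ := conj_in hk hp hz
    have h1 := h _ (mem_zpowers _)
    have h2 : Commute g ((c⁻¹ * gen .l * c) * (c⁻¹ * gen .a * c)) := by
      have h3 : c⁻¹ * (gen .l * gen .a) * c = (c⁻¹ * gen .l * c) * (c⁻¹ * gen .a * c) := by group
      rw [← h3]
      exact (mem_centralizer_singleton_iff.1 h1.1).symm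
    have hcl : c⁻¹ * gen .l * c ∈ L := by
      have := Cfsg.Agent.R08.FiTwentyFour.conj hll c⁻¹
      rwa [inv_inv] at this
    have hca : c⁻¹ * gen .a * c ∈ L := by
      have := Cfsg.Agent.R08.FiTwentyFour.conj hal c⁻¹
      rwa [inv_inv] at this
    refine hD _ hcl (odd_pair hodd hcl hca ?_ ?_ h2)
    · have h4 := hla.1.eq
      show (c⁻¹ * gen .l * c) * (c⁻¹ * gen .a * c) = (c⁻¹ * gen .a * c) * (c⁻¹ * gen .l * c)
      calc (c⁻¹ * gen .l * c) * (c⁻¹ * gen .a * c) = c⁻¹ * (gen .l * gen .a) * c := by group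
        _ = c⁻¹ * (gen .a * gen .l) * c := by rw [h4]
        _ = (c⁻¹ * gen .a * c) * (c⁻¹ * gen .l * c) := by group
    · intro h4
      apply hla.2
      have h5 := mul_right_cancel h4
      exact mul_left_cancel h5
  have k3 : 3 ∣ H.relIndex K := by
    by_contra hk
    have hA : A ≤ K := by
      intro a ha
      refine ⟨mem_centralizer_singleton_iff.2 (A_comm ha (x2_mem_A (mem_zpowers _))).eq, mem_commutator_iff.2 ?_⟩
      rcases Int.units_eq_one_or (sgn a) with h | h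
      · exact h
      · have h1 := congrArg sgn (A_cube ha)
        rw [map_pow, h, map_one] at h1
        exact absurd h1 (by decide)
    have hp : IsPGroup 3 A := IsPGroup.of_card card_A
    obtain ⟨c, hc, h⟩ := conj_in hk hp hA
    apply hg3
    apply mem_A_of_comm
    intro a ha
    have hcN : c ∈ N := NY_le_N (K_le_NY hc)
    have h1 : c * a * c⁻¹ ∈ A := (Subgroup.mem_normalizer_iff.1 hcN a).1 ha
    have h2 := h _ h1
    have h3 : c⁻¹ * (c * a * c⁻¹) * c = a := by group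
    rw [h3] at h2
    exact (mem_centralizer_singleton_iff.1 h2.1).symm
  have k5 : 5 ∣ H.relIndex K := by
    have h1 : 5 ∣ Nat.card H * H.relIndex K := by rw [hcard]; norm_num
    exact ((Nat.Prime.dvd_mul (by norm_num)).1 h1).resolve_left h5
  have k7 : 7 ∣ H.relIndex K := by
    have h1 : 7 ∣ Nat.card H * H.relIndex K := by rw [hcard]; norm_num
    refine ((Nat.Prime.dvd_mul (by norm_num)).1 h1).resolve_left fun h7 => ?_
    obtain ⟨y, hy⟩ := exists_prime_orderOf_dvd_card' 7 h7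
    have hyg : Commute (y : Fi24) g := mem_centralizer_singleton_iff.1 y.2.1
    have hgx : Commute g x2 := hcx (Commute.refl g)
    exact no_seven hgx hb hgo (hcx hyg) (by rw [← hy]; exact Subgroup.orderOf_coe y) hyg
  have k210 : 210 ∣ H.relIndex K := by
    have h1 : 2 * 3 ∣ H.relIndex K := Nat.Coprime.mul_dvd_of_dvd_of_dvd (by norm_num) k2 k3
    have h2 : 5 * 7 ∣ H.relIndex K := Nat.Coprime.mul_dvd_of_dvd_of_dvd (by norm_num) k5 k7
    exact Nat.Coprime.mul_dvd_of_dvd_of_dvd (m := 2 * 3) (n := 5 * 7) (by norm_num) h1 h2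
  obtain ⟨m, hm⟩ := k210
  rw [hm] at hcard
  have hm0 : 0 < m := by
    rcases Nat.eq_zero_or_pos m with h | h
    · rw [h] at hcard; simp at hcard
    · exact h
  have h6 : Nat.card H * 210 * 1 ≤ Nat.card H * 210 * m := Nat.mul_le_mul le_rfl hm0
  have h7 : Nat.card H * (210 * m) = Nat.card H * 210 * m := by ring
  omega

/-! ### Transport -/

theorem card_conj (g : Spor.Fi24') (c : Fi24) : Nat.card (centralizer ({g} : Set Spor.Fi24')) =
    Nat.card (centralizer ({c * (g : Fi24) * c⁻¹} : Set Fi24) ⊓ _root_.commutator Fi24 : Subgroup Fi24) := by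
  refine Nat.card_congr ⟨fun a => ⟨c * ((a : Spor.Fi24') : Fi24) * c⁻¹, ?_, ?_⟩, fun a => ⟨⟨c⁻¹ * (a : Fi24) * c, ?_⟩, ?_⟩,
    fun a => ?_, fun a => ?_⟩
  · show c * ((a : Spor.Fi24') : Fi24) * c⁻¹ ∈ centralizer ({c * (g : Fi24) * c⁻¹} : Set Fi24)
    rw [mem_centralizer_singleton_iff]
    have h1 : ((a : Spor.Fi24') : Fi24) * (g : Fi24) = (g : Fi24) * ((a : Spor.Fi24') : Fi24) :=
      congrArg Subtype.val (mem_centralizer_singleton_iff.1 a.2)
    calc c * ((a : Spor.Fi24') : Fi24) * c⁻¹ * (c * (g : Fi24) * c⁻¹) =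
        c * (((a : Spor.Fi24') : Fi24) * (g : Fi24)) * c⁻¹ := by group
      _ = c * ((g : Fi24) * ((a : Spor.Fi24') : Fi24)) * c⁻¹ := by rw [h1]
      _ = c * (g : Fi24) * c⁻¹ * (c * ((a : Spor.Fi24') : Fi24) * c⁻¹) := by group
  · exact (inferInstance : (_root_.commutator Fi24).Normal).conj_mem _ (a : Spor.Fi24').2 c
  · have h := (inferInstance : (_root_.commutator Fi24).Normal).conj_mem _ a.2.2 c⁻¹
    rwa [inv_inv] at h
  · rw [mem_centralizer_singleton_iff]
    apply Subtype.ext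
    show c⁻¹ * (a : Fi24) * c * (g : Fi24) = (g : Fi24) * (c⁻¹ * (a : Fi24) * c)
    have h1 : (a : Fi24) * (c * (g : Fi24) * c⁻¹) = (c * (g : Fi24) * c⁻¹) * (a : Fi24) :=
      mem_centralizer_singleton_iff.1 a.2.1
    calc c⁻¹ * (a : Fi24) * c * (g : Fi24) = c⁻¹ * ((a : Fi24) * (c * (g : Fi24) * c⁻¹)) * c := by group
      _ = c⁻¹ * ((c * (g : Fi24) * c⁻¹) * (a : Fi24)) * c := by rw [h1]
      _ = (g : Fi24) * (c⁻¹ * (a : Fi24) * c) := by group
  · apply Subtype.ext
    apply Subtype.ext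
    show c⁻¹ * (c * ((a : Spor.Fi24') : Fi24) * c⁻¹) * c = ((a : Spor.Fi24') : Fi24)
    group
  · apply Subtype.ext
    show c * (c⁻¹ * (a : Fi24) * c) * c⁻¹ = (a : Fi24)
    group

/-- no transposition commutes with a conjugate -/
theorem noD_conj {g : Fi24} (hD : ∀ d ∈ L, ¬ Commute g d) (c : Fi24) : ∀ d ∈ L, ¬ Commute (c * g * c⁻¹) d := by
  intro d hd h
  have hd' : c⁻¹ * d * c ∈ L := by
    have := Cfsg.Agent.R08.FiTwentyFour.conj hd c⁻¹
    rwa [inv_inv] at this
  refine hD _ hd' ?_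
  have h1 := h.eq
  show g * (c⁻¹ * d * c) = c⁻¹ * d * c * g
  calc g * (c⁻¹ * d * c) = c⁻¹ * (c * g * c⁻¹ * d) * c := by group
    _ = c⁻¹ * (d * (c * g * c⁻¹)) * c := by rw [h1]
    _ = c⁻¹ * d * c * g := by group

theorem X1_conj : word ur * H842.ThreeCl.X 1 * (word ur)⁻¹ = x2 := x2_conj

/-- **class of `X 1`** -/
theorem bound_one {g : Spor.Fi24'} {b : ℕ} (hb : 2 ≤ b) (hgo : orderOf g = 3 ^ b) {n : ℕ} {c : Fi24}
    (hc : c * (g : Fi24) ^ n * c⁻¹ = H842.ThreeCl.X 1 ∨ c * (g : Fi24) ^ n * c⁻¹ = (H842.ThreeCl.X 1)⁻¹)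
    (h5 : ¬ 5 ∣ Nat.card (centralizer ({g} : Set Spor.Fi24'))) (hD : ∀ d ∈ L, ¬ Commute (g : Fi24) d) :
    Nat.card (centralizer ({g} : Set Spor.Fi24')) ≤ 78382080 := by
  let c' := word ur * c
  rw [card_conj g c'] at h5 ⊢
  refine (bound (b := b) ?_ hb ?_ h5 (noD_conj hD c')).trans (by norm_num)
  · have e1 : (c' * (g : Fi24) * c'⁻¹) ^ n = word ur * (c * (g : Fi24) ^ n * c⁻¹) * (word ur)⁻¹ := by
      rw [conj_pow]
      show word ur * c * (g : Fi24) ^ n * (word ur * c)⁻¹ = _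
      group
    rcases hc with hc | hc
    · rw [hc, X1_conj] at e1
      rw [← e1]
      exact pow_mem (mem_zpowers _) n
    · have e2 : x2 = ((c' * (g : Fi24) * c'⁻¹) ^ n)⁻¹ := by
        rw [e1, hc, ← X1_conj]
        group
      rw [e2]
      exact inv_mem (pow_mem (mem_zpowers _) n)
  · rw [← hgo, ← Subgroup.orderOf_coe g]
    exact (MulAut.conj c').orderOf_eq (g : Fi24)

end Cfsg.Agent.H49.Four.NineSix
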